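import Cfsg.Agent.Fusion.VirtuallyFree.Tree
import Cfsg.Agent.Fusion.Basic
import Mathlib.GroupTheory.FreeGroup.NielsenSchreier
import Mathlib.GroupTheory.SemidirectProduct
import Mathlib.Data.Finite.Perm

/-!
Every fusion system on a finite group is realized by a virtually free group.

The group lives in the semidirect product of the free group on the edges of a graph on the cosets
of `S` in its symmetric group by that symmetric group; it consists of paths from the base coset.
-/

set_option autoImplicit false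

namespace Cfsg.Lib.Fusion.VFree

open Cfsg Cfsg.FusionSystem FreeGroup

universe u

variable {Ω : Type u} [Group Ω] {S : Subgroup Ω} (F : FusionSystem S)

/-- The maps of the system. -/
abbrev Gens : Type u := Σ P : Subgroup Ω, F.Hom P

variable {F}

/-- A map as a homomorphism between subgroups of `S`. -/
def Gens.hom (i : Gens F) : (i.1.subgroupOf S) →* S :=
  ((i.2.1.comp (Subgroup.subgroupOfEquivOfLe (F.le_of_mem i.2.2).1).toMonoidHom)).codRestrict S
    fun _ => (F.le_of_mem i.2.2).2 _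

theorem Gens.hom_apply (i : Gens F) (x : i.1.subgroupOf S) :
    ((i.hom x : S) : Ω) = i.2.1 ⟨((x : S) : Ω), x.2⟩ := rfl

theorem Gens.hom_injective (i : Gens F) : Function.Injective i.hom := by
  intro a b h
  have h1 := congrArg Subtype.val h
  rw [Gens.hom_apply, Gens.hom_apply] at h1
  exact Subtype.ext (Subtype.ext (Subtype.ext_iff.mp (F.injective_of_mem i.2.2 h1) :))

/-- The left regular representation. -/
abbrev reg (S : Subgroup Ω) : S →* Equiv.Perm S := MulAction.toPermHom S S

theorem reg_injective : Function.Injective (reg S) := fun a b h => by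
  simpa using Equiv.ext_iff.mp h 1

theorem exists_perm [Finite S] (i : Gens F) :
    ∃ σ : Equiv.Perm S, ∀ x : i.1.subgroupOf S, σ * reg S x = reg S (i.hom x) * σ := by
  set P := i.1.subgroupOf S
  set Q := i.hom.range
  have hcard : Nat.card (S ⧸ P) = Nat.card (S ⧸ Q) := by
    have h1 := Subgroup.card_eq_card_quotient_mul_card_subgroup P
    have h2 := Subgroup.card_eq_card_quotient_mul_card_subgroup Q
    have h3 : Nat.card Q = Nat.card P :=
      (Nat.card_congr (MonoidHom.ofInjective i.hom_injective).toEquiv).symm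
    rw [h3] at h2
    exact Nat.eq_of_mul_eq_mul_right Nat.card_pos (h1.symm.trans h2)
  let ε := (Finite.card_eq.mp hcard).some
  have hmem : ∀ s : S, ((s⁻¹ : S) : S ⧸ P).out⁻¹ * s⁻¹ ∈ P := fun s =>
    QuotientGroup.eq.mp (QuotientGroup.out_eq' _)
  let f : S → S := fun s =>
    (i.hom ⟨_, hmem s⟩)⁻¹ * (ε ((s⁻¹ : S) : S ⧸ P)).out⁻¹
  have hinj : Function.Injective f := by
    intro s t h
    have h1 : ε ((s⁻¹ : S) : S ⧸ P) = ε ((t⁻¹ : S) : S ⧸ P) := by
      have h' := congrArg (fun z : S => z⁻¹) h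
      simp only [f, mul_inv_rev, inv_inv] at h'
      have h2 := congrArg (fun z : S => (z : S ⧸ Q)) h'
      simp only [QuotientGroup.mk_mul_of_mem _ (show i.hom ⟨_, hmem s⟩ ∈ Q from ⟨_, rfl⟩),
        QuotientGroup.mk_mul_of_mem _ (show i.hom ⟨_, hmem t⟩ ∈ Q from ⟨_, rfl⟩),
        QuotientGroup.out_eq'] at h2
      exact h2
    have h2 := ε.injective h1
    simp only [f, h1] at h
    have h3 := congrArg Subtype.val (i.hom_injective (inv_injective (mul_right_cancel h)))
    have h4 : ((s⁻¹ : S) : S ⧸ P).out⁻¹ * s⁻¹ = ((t⁻¹ : S) : S ⧸ P).out⁻¹ * t⁻¹ := h3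
    rw [h2] at h4
    exact inv_injective (mul_left_cancel h4)
  refine ⟨Equiv.ofBijective f (Finite.injective_iff_bijective.mp hinj), fun x => ?_⟩
  refine Equiv.ext fun s => ?_
  show f ((x : S) * s) = i.hom x * f s
  have hc : (((x : S) * s)⁻¹ : S) = s⁻¹ * ((x⁻¹ : P) : S) := by simp
  have hq : ((((x : S) * s)⁻¹ : S) : S ⧸ P) = ((s⁻¹ : S) : S ⧸ P) := by
    rw [hc]
    exact QuotientGroup.mk_mul_of_mem _ (x⁻¹).2
  have he : (⟨_, hmem ((x : S) * s)⟩ : P) = ⟨_, hmem s⟩ * x⁻¹ := by
    refine Subtype.ext ?_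
    show (((((x : S) * s)⁻¹ : S) : S ⧸ P).out)⁻¹ * ((x : S) * s)⁻¹ = _
    rw [hq, hc, ← mul_assoc]
    rfl
  show (i.hom ⟨_, hmem ((x : S) * s)⟩)⁻¹ * (ε ((((x : S) * s)⁻¹ : S) : S ⧸ P)).out⁻¹ =
    i.hom x * ((i.hom ⟨_, hmem s⟩)⁻¹ * (ε ((s⁻¹ : S) : S ⧸ P)).out⁻¹)
  rw [he, hq, _root_.map_mul, _root_.map_inv, mul_inv_rev, inv_inv, mul_assoc]

/-- The permutation attached to a map. -/
noncomputable def Gens.perm [Finite S] (i : Gens F) : Equiv.Perm S := (exists_perm i).choose

theorem Gens.perm_spec [Finite S] (i : Gens F) (x : i.1.subgroupOf S) :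
    i.perm * reg S x = reg S (i.hom x) * i.perm :=
  (exists_perm i).choose_spec x

/-- The stabilizer of the base edge of a map. -/
def Gens.stab (i : Gens F) : Subgroup (Equiv.Perm S) := i.hom.range.map (reg S)

variable (F) in
/-- The edges. -/
abbrev Edge : Type u := Σ i : Gens F, Equiv.Perm S ⧸ i.stab

/-- The action on edges. -/
def edgeAct : Equiv.Perm S →* Equiv.Perm (Edge F) where
  toFun σ := Equiv.sigmaCongrRight fun i => MulAction.toPerm (β := Equiv.Perm S ⧸ i.stab) σ
  map_one' := Equiv.ext fun e => by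
    obtain ⟨i, w⟩ := e
    show (⟨i, (1 : Equiv.Perm S) • w⟩ : Edge F) = ⟨i, w⟩
    rw [one_smul]
  map_mul' σ τ := Equiv.ext fun e => by
    obtain ⟨i, w⟩ := e
    show (⟨i, (σ * τ) • w⟩ : Edge F) = ⟨i, σ • τ • w⟩
    rw [mul_smul]

/-- The action on the free group. -/
def freeAct : Equiv.Perm S →* MulAut (FreeGroup (Edge F)) where
  toFun σ := freeGroupCongr (edgeAct σ)
  map_one' := by
    rw [_root_.map_one]
    exact freeGroupCongr_refl
  map_mul' σ τ := by
    rw [_root_.map_mul]
    exact (freeGroupCongr_trans (edgeAct τ) (edgeAct σ)).symm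

theorem freeAct_apply (σ : Equiv.Perm S) (x : FreeGroup (Edge F)) :
    freeAct σ x = freeGroupCongr (edgeAct σ) x := rfl

/-- The vertices. -/
abbrev Vert {Ω : Type u} [Group Ω] {S : Subgroup Ω} (_F : FusionSystem S) : Type u :=
  Equiv.Perm S ⧸ (reg S).range

variable [Finite S]

theorem stab_conj (i : Gens F) {z : Equiv.Perm S} (hz : z ∈ i.stab) :
    i.perm⁻¹ * z * i.perm ∈ (reg S).range := by
  obtain ⟨_, ⟨x, rfl⟩, rfl⟩ := hz
  exact ⟨x, by rw [mul_assoc, ← i.perm_spec x, inv_mul_cancel_left]⟩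

/-- The first end of an edge. -/
def Edge.src : Edge F → Vert F
  | ⟨i, w⟩ => Quotient.liftOn' w (fun w => (w : Vert F)) fun a b h => by
      refine QuotientGroup.eq.mpr ?_
      obtain ⟨z, -, e⟩ := (QuotientGroup.leftRel_apply.mp h : a⁻¹ * b ∈ i.stab)
      exact ⟨z, e⟩

/-- The second end of an edge. -/
noncomputable def Edge.tgt : Edge F → Vert F
  | ⟨i, w⟩ => Quotient.liftOn' w (fun w => ((w * i.perm : Equiv.Perm S) : Vert F)) fun a b h => by
      refine QuotientGroup.eq.mpr ?_
      have := stab_conj i (QuotientGroup.leftRel_apply.mp h : a⁻¹ * b ∈ i.stab)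
      rw [show (a * i.perm)⁻¹ * (b * i.perm) = i.perm⁻¹ * (a⁻¹ * b) * i.perm by group]
      exact this

/-- Where a letter starts. -/
noncomputable def lsrc (x : Edge F × Bool) : Vert F := cond x.2 x.1.src x.1.tgt

/-- Where a letter ends. -/
noncomputable def ltgt (x : Edge F × Bool) : Vert F := cond x.2 x.1.tgt x.1.src

/-- A word is a path between two vertices. -/
def Path : Vert F → List (Edge F × Bool) → Vert F → Prop
  | a, [], b => a = b
  | a, x :: L, b => lsrc x = a ∧ Path (ltgt x) L b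

theorem path_append {a b : Vert F} {L₁ L₂ : List (Edge F × Bool)} :
    Path a (L₁ ++ L₂) b ↔ ∃ c, Path a L₁ c ∧ Path c L₂ b := by
  induction L₁ generalizing a with
  | nil => simp [Path]
  | cons x L ih => simp [Path, ih, and_assoc]

theorem path_red {a b : Vert F} {L₁ L₂ : List (Edge F × Bool)} (h : Red L₁ L₂)
    (hp : Path a L₁ b) : Path a L₂ b := by
  induction h with
  | refl => exact hp
  | tail _ hstep ih =>
    rename_i hred
    cases hstep with
    | @not L L' x t =>
    obtain ⟨c, h1, hs, ht, h2⟩ := path_append.mp ih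
    refine path_append.mpr ⟨c, h1, ?_⟩
    have h3 : ltgt (x, !t) = lsrc (x, t) := by cases t <;> rfl
    rwa [h3, hs] at h2

theorem path_invRev {a b : Vert F} {L : List (Edge F × Bool)} (hp : Path a L b) :
    Path b (invRev L) a := by
  induction L generalizing a with
  | nil => exact Eq.symm hp
  | cons x L ih =>
    obtain ⟨hs, hp⟩ := hp
    rw [invRev_cons, path_append]
    refine ⟨ltgt x, ih hp, ?_⟩
    obtain ⟨e, t⟩ := x
    subst hs
    refine ⟨?_, ?_⟩ <;> cases t <;> rfl

theorem path_smul (σ : Equiv.Perm S) {a b : Vert F} {L : List (Edge F × Bool)} (hp : Path a L b) :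
    Path (σ • a) (L.map fun x => (edgeAct σ x.1, x.2)) (σ • b) := by
  induction L generalizing a with
  | nil => exact congrArg (σ • ·) hp
  | cons x L ih =>
    obtain ⟨hs, hp⟩ := hp
    obtain ⟨⟨i, w⟩, t⟩ := x
    induction w using QuotientGroup.induction_on with
    | H w =>
      have h2 := ih hp
      subst hs
      refine ⟨?_, ?_⟩
      · cases t
        · exact congrArg (fun z : Equiv.Perm S => (z : Vert F)) (mul_assoc σ w i.perm)
        · rfl
      · convert h2 using 1
        cases t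
        · rfl
        · exact congrArg (fun z : Equiv.Perm S => (z : Vert F)) (mul_assoc σ w i.perm)

variable (F) in
/-- The ambient semidirect product. -/
abbrev Amb : Type u := FreeGroup (Edge F) ⋊[freeAct] Equiv.Perm S

/-- The copy of `S`. -/
def embS : S →* Amb F := SemidirectProduct.inr.comp (reg S)

/-- The element realizing a map. -/
noncomputable def elt (i : Gens F) : Amb F := ⟨FreeGroup.of ⟨i, ((1 : Equiv.Perm S) : _ ⧸ i.stab)⟩, i.perm⟩

variable (F) in
/-- The virtually free group. -/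
noncomputable def grp : Subgroup (Amb F) :=
  Subgroup.closure (Set.range (embS (F := F)) ∪ Set.range (elt (F := F)))

/-- The path condition. -/
def IsPathElt (g : Amb F) : Prop :=
  ∃ L, mk L = g.left ∧ Path ((1 : Equiv.Perm S) : Vert F) L (g.right : Vert F)

theorem isPathElt_of_mem {g : Amb F} (hg : g ∈ grp F) : IsPathElt g := by
  induction hg using Subgroup.closure_induction with
  | mem g hg =>
    rcases hg with ⟨s, rfl⟩ | ⟨i, rfl⟩
    · refine ⟨[], rfl, ?_⟩
      exact QuotientGroup.eq.mpr ⟨s, by simp [embS]⟩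
    · refine ⟨[(⟨i, ((1 : Equiv.Perm S) : _ ⧸ i.stab)⟩, true)], rfl, rfl, ?_⟩
      exact congrArg (fun z : Equiv.Perm S => (z : Vert F)) (one_mul i.perm)
  | one => exact ⟨[], rfl, rfl⟩
  | mul a b _ _ ha hb =>
    obtain ⟨L, hL, hpL⟩ := ha
    obtain ⟨M, hM, hpM⟩ := hb
    refine ⟨L ++ M.map fun x => (edgeAct a.right x.1, x.2), ?_,
      path_append.mpr ⟨_, hpL, ?_⟩⟩
    · rw [← mul_mk, hL, ← congr_mk, hM]
      rfl
    · have := path_smul a.right hpM
      rwa [show a.right • ((1 : Equiv.Perm S) : Vert F) = (a.right : Vert F) from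
        congrArg (fun z : Equiv.Perm S => (z : Vert F)) (mul_one a.right)] at this
  | inv a _ ha =>
    obtain ⟨L, hL, hpL⟩ := ha
    refine ⟨(invRev L).map fun x => (edgeAct a.right⁻¹ x.1, x.2), ?_, ?_⟩
    · rw [← congr_mk, ← inv_mk, hL]
      rfl
    · have := path_smul a.right⁻¹ (path_invRev hpL)
      rwa [show a.right⁻¹ • (a.right : Vert F) = ((1 : Equiv.Perm S) : Vert F) from
          congrArg (fun z : Equiv.Perm S => (z : Vert F)) (inv_mul_cancel a.right),
        show a.right⁻¹ • ((1 : Equiv.Perm S) : Vert F) = ((a.right⁻¹ : Equiv.Perm S) : Vert F) from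
          congrArg (fun z : Equiv.Perm S => (z : Vert F)) (mul_one a.right⁻¹)] at this

theorem embS_mem (s : S) : embS s ∈ grp F := Subgroup.subset_closure (Or.inl ⟨s, rfl⟩)

theorem elt_mem (i : Gens F) : elt i ∈ grp F := Subgroup.subset_closure (Or.inr ⟨i, rfl⟩)

/-- Every path from the position of an element of the group is realized in the group. -/
theorem exists_lift_path {L : List (Edge F × Bool)} : ∀ {a b : Vert F}, Path a L b →
    ∀ g ∈ grp F, (g.right : Vert F) = a →
      ∃ g' ∈ grp F, g'.left = g.left * mk L ∧ (g'.right : Vert F) = b := by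
  induction L with
  | nil => exact fun h g hg he => ⟨g, hg, by rw [← one_eq_mk, mul_one], he.trans h⟩
  | cons x L ih =>
    intro a b hp g hg he
    obtain ⟨hs, hp⟩ := hp
    obtain ⟨⟨i, w⟩, t⟩ := x
    induction w using QuotientGroup.induction_on with
    | H w =>
    rw [← he] at hs
    have hmul : g.left * mk (((⟨i, (w : _ ⧸ i.stab)⟩ : Edge F), t) :: L) =
        g.left * mk [((⟨i, (w : _ ⧸ i.stab)⟩ : Edge F), t)] * mk L := by
      rw [mul_assoc, mul_mk]; rfl
    rw [hmul]
    cases t with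
    | true =>
      obtain ⟨s, hs'⟩ := QuotientGroup.eq.mp hs.symm
      have hr : (g * embS s).right = w := by
        show g.right * reg S s = w
        rw [hs', mul_inv_cancel_left]
      have hl : (g * embS s).left = g.left := by simp [embS]
      obtain ⟨g', hg', h1, h2⟩ := ih hp (g * embS s * elt i)
        (mul_mem (mul_mem hg (embS_mem s)) (elt_mem i))
        (congrArg (fun z : Equiv.Perm S => ((z * i.perm : Equiv.Perm S) : Vert F)) hr)
      refine ⟨g', hg', h1.trans ?_, h2⟩
      rw [SemidirectProduct.mul_left, hl, hr]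
      refine congrArg (fun z => g.left * z * mk L) ?_
      show freeGroupCongr (edgeAct w) (mk [(_, true)]) = _
      rw [congr_mk]
      exact congrArg (fun z : Equiv.Perm S => mk [((⟨i, (z : _ ⧸ i.stab)⟩ : Edge F), true)]) (mul_one w)
    | false =>
      obtain ⟨s, hs'⟩ := QuotientGroup.eq.mp hs.symm
      have hr : (g * embS s).right = w * i.perm := by
        show g.right * reg S s = w * i.perm
        rw [hs', mul_inv_cancel_left]
      have hl : (g * embS s).left = g.left := by simp [embS]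
      have hr' : (g * embS s * (elt i)⁻¹).right = w := by
        rw [SemidirectProduct.mul_right, hr, SemidirectProduct.inv_right]
        exact mul_inv_cancel_right w i.perm
      obtain ⟨g', hg', h1, h2⟩ := ih hp (g * embS s * (elt i)⁻¹)
        (mul_mem (mul_mem hg (embS_mem s)) (inv_mem (elt_mem i)))
        (congrArg (fun z : Equiv.Perm S => (z : Vert F)) hr')
      refine ⟨g', hg', h1.trans ?_, h2⟩
      rw [SemidirectProduct.mul_left, hl, hr, SemidirectProduct.inv_left]
      refine congrArg (fun z => g.left * z * mk L) ?_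
      show freeAct (w * i.perm) (freeAct i.perm⁻¹ (mk [(_, true)])⁻¹) = _
      rw [← MulAut.mul_apply, ← _root_.map_mul, mul_inv_cancel_right, inv_mk, freeAct_apply, congr_mk]
      exact congrArg (fun z : Equiv.Perm S => mk [((⟨i, (z : _ ⧸ i.stab)⟩ : Edge F), false)]) (mul_one w)

omit [Finite S] in
theorem isMap_conj_left {K : Subgroup Ω} {f : Ω → Ω} (hf : IsMap F K f) (s : S) :
    IsMap F K (fun y => (s : Ω) * f y * (s : Ω)⁻¹) :=
  hf.comp (isMap_conj le_rfl s.2) fun _ hy => hf.mem_S hy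

/-- Elements centralizing a path carry maps of the system along it. -/
theorem fusion_along {K : Subgroup Ω} (hK : K ≤ S) {L : List (Edge F × Bool)} :
    ∀ {a b : Vert F}, Path a L b →
      (∀ y : S, (y : Ω) ∈ K → ∀ x ∈ L, edgeAct (reg S y) x.1 = x.1) →
      ∀ u v : Equiv.Perm S, (u : Vert F) = a → (v : Vert F) = b →
        (∃ f, IsMap F K f ∧ ∀ y : S, (y : Ω) ∈ K → ∀ z : S, (z : Ω) = f y →
          u⁻¹ * reg S y * u = reg S z) →
        ∃ f, IsMap F K f ∧ ∀ y : S, (y : Ω) ∈ K → ∀ z : S, (z : Ω) = f y →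
          v⁻¹ * reg S y * v = reg S z := by
  induction L with
  | nil =>
    rintro a b rfl - u v hu hv ⟨f, hf, he⟩
    obtain ⟨s, hs⟩ := QuotientGroup.eq.mp (hu.trans hv.symm)
    refine ⟨_, isMap_conj_left hf s⁻¹, fun y hy z hz => ?_⟩
    have hz' : z = s⁻¹ * ⟨f y, hf.mem_S hy⟩ * s⁻¹⁻¹ := Subtype.ext hz
    rw [hz', inv_inv, _root_.map_mul, _root_.map_mul, _root_.map_inv, hs, ← he y hy ⟨f y, hf.mem_S hy⟩ rfl]
    group
  | cons x L ih =>
    intro a b hp hfix u v hu hv hf
    obtain ⟨hs, hp⟩ := hp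
    obtain ⟨⟨i, w⟩, t⟩ := x
    induction w using QuotientGroup.induction_on with
    | H w =>
    obtain ⟨f, hf, he⟩ := hf
    have hstab : ∀ y : S, (y : Ω) ∈ K → w⁻¹ * reg S y * w ∈ i.stab := fun y hy => by
      have h1 := hfix y hy _ List.mem_cons_self
      have h2 : ((reg S y * w : Equiv.Perm S) : Equiv.Perm S ⧸ i.stab) = (w : _ ⧸ i.stab) :=
        eq_of_heq (Sigma.mk.inj h1).2
      rw [mul_assoc]
      exact QuotientGroup.eq.mp h2.symm
    have hfix' : ∀ y : S, (y : Ω) ∈ K → ∀ x ∈ L, edgeAct (reg S y) x.1 = x.1 :=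
      fun y hy x hx => hfix y hy x (List.mem_cons_of_mem _ hx)
    cases t with
    | true =>
      obtain ⟨s, hs'⟩ := QuotientGroup.eq.mp (hu.trans hs.symm)
      have hz : ∀ y : S, (y : Ω) ∈ K → ∀ z : S, (z : Ω) = (s : Ω)⁻¹ * f y * (s : Ω) →
          ∃ x : i.1.subgroupOf S, i.hom x = z ∧
            (w * i.perm)⁻¹ * reg S y * (w * i.perm) = reg S x := by
        intro y hy z hz
        obtain ⟨_, ⟨x, rfl⟩, hx⟩ := hstab y hy
        have hz' : z = s⁻¹ * ⟨f y, hf.mem_S hy⟩ * s := Subtype.ext hz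
        refine ⟨x, reg_injective (hx.trans ?_), ?_⟩
        · rw [hz', _root_.map_mul, _root_.map_mul, _root_.map_inv, hs', ← he y hy ⟨f y, hf.mem_S hy⟩ rfl]
          group
        · rw [show (w * i.perm)⁻¹ * reg S y * (w * i.perm) =
              i.perm⁻¹ * (w⁻¹ * reg S y * w) * i.perm by group, ← hx, mul_assoc, ← i.perm_spec x,
            inv_mul_cancel_left]
      have hf₁ := isMap_conj_left hf s⁻¹
      obtain ⟨k, hk, -, hkl, -⟩ := (isMap_of_mem i.2.2).exists_inv
      have hin : ∀ y ∈ K, ((s⁻¹ : S) : Ω) * f y * ((s⁻¹ : S) : Ω)⁻¹ ∈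
          img i.1 (toFun' i.2.1) := fun y hy => by
        obtain ⟨x, hx, -⟩ := hz ⟨y, hK hy⟩ hy ⟨_, hf₁.mem_S hy⟩ (by simp)
        have hx' : toFun' i.2.1 ((x : S) : Ω) = ((s⁻¹ : S) : Ω) * f y * ((s⁻¹ : S) : Ω)⁻¹ := by
          have h1 := congrArg Subtype.val hx
          rw [Gens.hom_apply, ← toFun'_apply] at h1
          exact h1
        rw [← hx']
        exact IsMap.apply_mem_img x.2
      refine ih hp hfix' (w * i.perm) v rfl hv ⟨_, hf₁.comp hk hin, fun y hy z hzy => ?_⟩
      obtain ⟨x, hx, hxy⟩ := hz y hy ⟨_, hf₁.mem_S hy⟩ (by simp)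
      rw [hxy]
      congr 1
      refine Subtype.ext ?_
      rw [hzy]
      have hx' : toFun' i.2.1 ((x : S) : Ω) = ((s⁻¹ : S) : Ω) * f y * ((s⁻¹ : S) : Ω)⁻¹ := by
        have h1 := congrArg Subtype.val hx
        rw [Gens.hom_apply, ← toFun'_apply] at h1
        exact h1
      show _ = k (((s⁻¹ : S) : Ω) * f y * ((s⁻¹ : S) : Ω)⁻¹)
      rw [← hx']
      exact (hkl _ x.2).symm
    | false =>
      obtain ⟨s, hs'⟩ := QuotientGroup.eq.mp (hu.trans hs.symm)
      have hz : ∀ y : S, (y : Ω) ∈ K → ∀ z : S, (z : Ω) = (s : Ω)⁻¹ * f y * (s : Ω) →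
          ∃ hzP : z ∈ i.1.subgroupOf S, w⁻¹ * reg S y * w = reg S (i.hom ⟨z, hzP⟩) := by
        intro y hy z hz
        obtain ⟨_, ⟨x, rfl⟩, hx⟩ := hstab y hy
        have hz' : z = s⁻¹ * ⟨f y, hf.mem_S hy⟩ * s := Subtype.ext hz
        have hzx : (x : S) = z := by
          refine reg_injective ?_
          have h1 := i.perm_spec x
          rw [hz', _root_.map_mul, _root_.map_mul, _root_.map_inv, hs', ← he y hy ⟨f y, hf.mem_S hy⟩ rfl]
          calc reg S (x : S) = i.perm⁻¹ * (i.perm * reg S (x : S)) := by rw [inv_mul_cancel_left]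
            _ = i.perm⁻¹ * (reg S (i.hom x) * i.perm) := by rw [h1]
            _ = _ := by rw [hx]; group
        exact ⟨hzx ▸ x.2, by rw [← hx]; congr 2; exact Subtype.ext hzx⟩
      have hf₁ := isMap_conj_left hf s⁻¹
      have hin : ∀ y ∈ K, ((s⁻¹ : S) : Ω) * f y * ((s⁻¹ : S) : Ω)⁻¹ ∈ i.1 := fun y hy => by
        obtain ⟨hzP, -⟩ := hz ⟨y, hK hy⟩ hy ⟨_, hf₁.mem_S hy⟩ (by simp)
        exact hzP
      refine ih hp hfix' w v rfl hv ⟨_, hf₁.comp (isMap_of_mem i.2.2) hin, fun y hy z hzy => ?_⟩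
      obtain ⟨hzP, hxy⟩ := hz y hy ⟨_, hf₁.mem_S hy⟩ (by simp)
      rw [hxy]
      congr 1
      refine Subtype.ext ?_
      rw [hzy, Gens.hom_apply]
      exact (toFun'_apply_mem i.2.1 (hin y hy)).symm

theorem realized : F.IsRealizedBy (embS.codRestrict (grp F) embS_mem) := by
  refine ⟨fun a b h => reg_injective (congrArg (fun z : grp F => (z : Amb F).right) h),
    fun P hP φ hφ => ⟨fun hmem => ?_, ?_⟩⟩
  · refine ⟨⟨elt ⟨P, φ, hmem⟩, elt_mem _⟩, fun x => Subtype.ext ?_⟩
    show embS _ = elt (F := F) ⟨P, φ, hmem⟩ * embS _ * (elt ⟨P, φ, hmem⟩)⁻¹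
    set i : Gens F := ⟨P, φ, hmem⟩
    rw [eq_mul_inv_iff_mul_eq]
    have hx : (⟨x, hP x.2⟩ : S) ∈ i.1.subgroupOf S := x.2
    have hφx : (⟨φ x, hφ x⟩ : S) = i.hom ⟨_, hx⟩ := Subtype.ext rfl
    rw [hφx]
    refine SemidirectProduct.ext ?_ (i.perm_spec ⟨_, hx⟩).symm
    show 1 * freeAct (reg S (i.hom ⟨_, hx⟩)) (FreeGroup.of _) = FreeGroup.of _ * freeAct i.perm 1
    rw [one_mul, _root_.map_one, mul_one, freeAct_apply]
    show mk [((_ : Edge F), true)] = mk [(_, true)]
    refine congrArg (fun z : Equiv.Perm S ⧸ i.stab => mk [((⟨i, z⟩ : Edge F), true)]) ?_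
    refine QuotientGroup.eq.mpr ?_
    show (reg S (i.hom ⟨_, hx⟩) * 1)⁻¹ * 1 ∈ i.stab
    rw [mul_one, mul_one]
    exact inv_mem ⟨_, ⟨_, rfl⟩, rfl⟩
  · rintro ⟨g, hg⟩
    obtain ⟨L₀, hL₀, hp₀⟩ := isPathElt_of_mem g.2
    classical
    set L := ((g : Amb F).left).toWord
    have hp : Path ((1 : Equiv.Perm S) : Vert F) L ((g : Amb F).right : Vert F) := by
      have := path_red reduce.red hp₀
      rwa [show reduce L₀ = L from by rw [← toWord_mk, hL₀]] at this
    have hg' : ∀ x : P, (embS (⟨φ x, hφ x⟩ : S) : Amb F) * (g : Amb F) = (g : Amb F) * embS (⟨x, hP x.2⟩ : S) :=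
      fun x => by
        have := congrArg Subtype.val (hg x)
        exact eq_mul_inv_iff_mul_eq.mp this
    have hK : φ.range ≤ S := by rintro _ ⟨x, rfl⟩; exact hφ x
    have hfix : ∀ y : S, (y : Ω) ∈ φ.range → ∀ x ∈ L, edgeAct (reg S y) x.1 = x.1 := by
      rintro y ⟨x, hx⟩ e he
      have h1 := congrArg SemidirectProduct.left (hg' x)
      simp only [SemidirectProduct.mul_left, embS, MonoidHom.comp_apply,
        SemidirectProduct.left_inr, SemidirectProduct.right_inr, one_mul, _root_.map_one, mul_one] at h1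
      rw [show (⟨φ x, hφ x⟩ : S) = y from Subtype.ext hx, freeAct_apply] at h1
      have h2 := congrArg toWord h1
      rw [toWord_congr] at h2
      have h3 : L.map (fun z => (edgeAct (reg S y) z.1, z.2)) = L.map id := by
        rw [List.map_id]; exact h2
      exact congrArg Prod.fst (List.map_inj_left.mp h3 e he)
    obtain ⟨f, hf, he⟩ := fusion_along hK hp hfix 1 (g : Amb F).right rfl rfl
      ⟨id, isMap_id hK, fun y _ z hz => by
        rw [show z = y from Subtype.ext hz]; simp⟩
    have hfφ : ∀ x : P, f (φ x) = x := fun x => by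
      have h1 := congrArg SemidirectProduct.right (hg' x)
      simp only [SemidirectProduct.mul_right, embS, MonoidHom.comp_apply,
        SemidirectProduct.right_inr] at h1
      have h2 := he ⟨φ x, hφ x⟩ ⟨x, rfl⟩ ⟨f (φ x), hf.mem_S ⟨x, rfl⟩⟩ rfl
      rw [mul_assoc, h1, inv_mul_cancel_left] at h2
      exact (congrArg Subtype.val (reg_injective h2)).symm
    have hi : img φ.range f = P := by
      refine le_antisymm (IsMap.img_le_iff.mpr ?_) fun x hx => ?_
      · rintro _ ⟨x, rfl⟩
        exact hfφ x ▸ x.2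
      · exact (congrArg (· ∈ img φ.range f) (hfφ ⟨x, hx⟩)).mp (IsMap.apply_mem_img ⟨⟨x, hx⟩, rfl⟩)
    obtain ⟨k, hk, -, hkl, -⟩ := hf.exists_inv
    rw [hi] at hk
    exact hk.mem_of_agree fun x => by
      conv_rhs => rw [← hfφ x]
      exact (hkl _ ⟨x, rfl⟩).symm

theorem exists_conj (H : Subgroup (grp F)) [Finite H] :
    ∃ g : grp F, ∀ h ∈ H, g * h * g⁻¹ ∈ (embS.codRestrict (grp F) embS_mem).range := by
  classical
  let c : H → FreeGroup (Edge F) := fun h => ((h : grp F) : Amb F).left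
  let u : H →* Equiv.Perm (Edge F) := edgeAct.comp
    (SemidirectProduct.rightHom.comp ((grp F).subtype.comp H.subtype))
  obtain ⟨w, hw, h₀, hpre⟩ := exists_fixed u c fun h k => rfl
  obtain ⟨L₀, hL₀, hp₀⟩ := isPathElt_of_mem (h₀ : grp F).2
  have hp := path_red reduce.red hp₀
  rw [show reduce L₀ = (c h₀).toWord from by rw [← toWord_mk, hL₀]] at hp
  obtain ⟨R, hR⟩ := hpre
  rw [← hR] at hp
  obtain ⟨v, hp1, -⟩ := path_append.mp hp
  obtain ⟨g, hg, hgl, -⟩ := exists_lift_path hp1 1 (one_mem _) rfl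
  rw [SemidirectProduct.one_left, one_mul, mk_toWord] at hgl
  refine ⟨(⟨g, hg⟩ : grp F)⁻¹, fun h hh => ?_⟩
  rw [inv_inv]
  set k := g⁻¹ * ((h : grp F) : Amb F) * g
  have hk : k.left = 1 := by
    show (g⁻¹ * (h : Amb F) * g).left = 1
    rw [SemidirectProduct.mul_left, SemidirectProduct.mul_left, SemidirectProduct.inv_left,
      SemidirectProduct.mul_right, SemidirectProduct.inv_right, hgl, _root_.map_mul, MulAut.mul_apply,
      mul_assoc, ← _root_.map_mul, ← _root_.map_mul]
    have := hw ⟨h, hh⟩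
    change (h : Amb F).left * freeAct (h : Amb F).right w = w at this
    rw [this, inv_mul_cancel, _root_.map_one]
  obtain ⟨L, hL, hpL⟩ := isPathElt_of_mem (mul_mem (mul_mem (inv_mem hg) (h : grp F).2) hg)
  have hp' := path_red reduce.red hpL
  rw [show reduce L = ([] : List (Edge F × Bool)) from by rw [← toWord_mk, hL, hk, toWord_one]]
    at hp'
  obtain ⟨s, hs⟩ := QuotientGroup.eq.mp (hp' : _ = _)
  rw [inv_one, one_mul] at hs
  exact ⟨s, Subtype.ext (SemidirectProduct.ext hk.symm hs)⟩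

theorem exists_free :
    ∃ N : Subgroup (grp F), N.Normal ∧ IsFreeGroup N ∧ N.index ∣ (Nat.card S).factorial := by
  let r : grp F →* Equiv.Perm S := SemidirectProduct.rightHom.comp (grp F).subtype
  refine ⟨r.ker, inferInstance, ?_, ?_⟩
  · have hr : ∀ x : r.ker, ((x : grp F) : Amb F).right = 1 := fun x => x.2
    let ψ : r.ker →* FreeGroup (Edge F) :=
      { toFun := fun x => ((x : grp F) : Amb F).left
        map_one' := rfl
        map_mul' := fun a b => by
          show ((a : grp F) : Amb F).left * freeAct ((a : grp F) : Amb F).right _ = _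
          rw [hr a, _root_.map_one]
          rfl }
    have hinj : Function.Injective ψ := fun a b h =>
      Subtype.ext (Subtype.ext (SemidirectProduct.ext h ((hr a).trans (hr b).symm)))
    exact IsFreeGroup.ofMulEquiv (MonoidHom.ofInjective hinj).symm
  · rw [Subgroup.index_ker, ← Nat.card_perm]
    exact Subgroup.card_subgroup_dvd_card r.range

theorem exists_realization :
    ∃ (G : Type u) (_ : Group G) (ι : S →* G), F.IsRealizedBy ι ∧
      (∀ H : Subgroup G, Finite H → ∃ g : G, ∀ h ∈ H, g * h * g⁻¹ ∈ ι.range) ∧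
      ∃ N : Subgroup G, N.Normal ∧ IsFreeGroup N ∧ N.index ∣ (Nat.card S).factorial :=
  ⟨grp F, inferInstance, _, realized, fun H _ => exists_conj H, exists_free⟩

end Cfsg.Lib.Fusion.VFree
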