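import Mathlib.GroupTheory.FreeGroup.Reduce
import Mathlib.Algebra.Order.BigOperators.Group.Finset
import Mathlib.Tactic

/-!
A finite group acting by twisted translations on a free group fixes a word lying on a prefix of
one of the translation parts.
-/

set_option autoImplicit false

namespace Cfsg.Lib.Fusion.VFree

open FreeGroup

variable {E : Type*}

theorem congr_mk {E' : Type*} (e : E ≃ E') (L : List (E × Bool)) :
    freeGroupCongr e (mk L) = mk (L.map fun x => (e x.1, x.2)) :=
  FreeGroup.map.mk

variable [DecidableEq E]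

omit [DecidableEq E] in
theorem isReduced_map {E' : Type*} {f : E → E'} (hf : Function.Injective f)
    {L : List (E × Bool)} (h : IsReduced L) : IsReduced (L.map fun x => (f x.1, x.2)) := by
  refine List.isChain_map_of_isChain _ (fun a b hab heq => ?_) h
  exact hab (hf heq)

theorem toWord_congr (e : Equiv.Perm E) (x : FreeGroup E) :
    (freeGroupCongr e x).toWord = x.toWord.map fun y => (e y.1, y.2) := by
  conv_lhs => rw [← mk_toWord (x := x), congr_mk, toWord_mk]
  exact (isReduced_map e.injective isReduced_toWord).reduce_eq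

theorem norm_congr (e : Equiv.Perm E) (x : FreeGroup E) :
    FreeGroup.norm (freeGroupCongr e x) = FreeGroup.norm x := by
  rw [FreeGroup.norm, toWord_congr, List.length_map]
  rfl

/-- The inverse letter. -/
def flip' (x : E × Bool) : E × Bool := (x.1, !x.2)

omit [DecidableEq E] in
theorem isReduced_append {L₁ L₂ : List (E × Bool)} (h₁ : IsReduced L₁) (h₂ : IsReduced L₂)
    (h : ∀ a ∈ L₁.getLast?, ∀ b ∈ L₂.head?, a.1 = b.1 → a.2 = b.2) : IsReduced (L₁ ++ L₂) :=
  List.isChain_append.mpr ⟨h₁, h₂, h⟩

/-- Moving one letter along the path changes the distance by one. -/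
theorem norm_step (x : E × Bool) (d : FreeGroup E) :
    (∃ L, d.toWord = x :: L ∧ FreeGroup.norm ((mk [x])⁻¹ * d) + 1 = FreeGroup.norm d) ∨
      ((∀ L, d.toWord ≠ x :: L) ∧
        FreeGroup.norm ((mk [x])⁻¹ * d) = FreeGroup.norm d + 1) := by
  by_cases h : ∃ L, d.toWord = x :: L
  · obtain ⟨L, hL⟩ := h
    refine Or.inl ⟨L, hL, ?_⟩
    have h1 : (mk [x])⁻¹ * d = mk L := by
      rw [inv_mul_eq_iff_eq_mul, mul_mk, List.singleton_append, ← hL, mk_toWord]
    have hred : IsReduced L := by
      have := (isReduced_toWord (x := d)).infix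
        (L₁ := L) (hL ▸ (List.suffix_cons x L).isInfix)
      exact this
    rw [h1, FreeGroup.norm, FreeGroup.norm, toWord_mk, hred.reduce_eq, hL, List.length_cons]
  · rw [not_exists] at h
    refine Or.inr ⟨h, ?_⟩
    have h1 : (mk [x])⁻¹ * d = mk (flip' x :: d.toWord) := by
      rw [inv_mk]
      conv_lhs => rw [← mk_toWord (x := d), mul_mk]
      rfl
    have hred : IsReduced (flip' x :: d.toWord) := by
      cases hd : d.toWord with
      | nil => exact IsReduced.singleton
      | cons y L =>
        refine isReduced_cons_cons.mpr ⟨fun (he : x.1 = y.1) => ?_, hd ▸ isReduced_toWord⟩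
        show (!x.2) = y.2
        by_contra hne
        exact h L (hd.trans (congrArg (· :: L) (Prod.ext he.symm (by
          revert hne; cases x.2 <;> cases y.2 <;> simp))))
    rw [h1, FreeGroup.norm, toWord_mk, hred.reduce_eq, List.length_cons]
    rfl

/-- If the first step away from `d` leads away, the whole path does. -/
theorem norm_of_first_step {q d : FreeGroup E} {x : E × Bool} {Q : List (E × Bool)}
    (hq : q.toWord = x :: Q) (hd : ∀ L, d.toWord ≠ x :: L) :
    FreeGroup.norm (q⁻¹ * d) = FreeGroup.norm q + FreeGroup.norm d := by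
  have hred : IsReduced (invRev q.toWord ++ d.toWord) := by
    refine isReduced_append (toWord_inv q ▸ isReduced_toWord) isReduced_toWord ?_
    intro a ha b hb he
    rw [hq, invRev_cons, List.getLast?_append] at ha
    obtain rfl : a = flip' x := by simpa [invRev, flip'] using ha.symm
    cases hdw : d.toWord with
    | nil => rw [hdw] at hb; simp at hb
    | cons y L =>
      rw [hdw] at hb
      obtain rfl : b = y := by simpa using hb.symm
      show (!x.2) = b.2
      by_contra hne
      exact hd L (hdw.trans (congrArg (· :: L) (Prod.ext he.symm (by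
        revert hne; cases x.2 <;> cases b.2 <;> simp))))
  rw [FreeGroup.norm, toWord_mul, toWord_inv, hred.reduce_eq, List.length_append]
  simp [FreeGroup.norm, invRev]

theorem arith_far {a k : ℕ} (hk : 2 ≤ k) :
    k * (a + 1) ^ 2 < (k - 1) * a ^ 2 + (k + a) ^ 2 := by
  obtain ⟨j, rfl⟩ : ∃ j, k = j + 2 := ⟨k - 2, by omega⟩
  simp only [show j + 2 - 1 = j + 1 by omega]
  nlinarith

theorem arith_near {a b k : ℕ} (hk : 2 ≤ k) (ha : a ≤ k + b) (hc : 1 ≤ a) :
    k * (a - 1) ^ 2 < (k - 1) * a ^ 2 + b ^ 2 := by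
  obtain ⟨j, rfl⟩ : ∃ j, k = j + 2 := ⟨k - 2, by omega⟩
  obtain ⟨i, rfl⟩ : ∃ i, a = i + 1 := ⟨a - 1, by omega⟩
  simp only [show j + 2 - 1 = j + 1 by omega, Nat.add_sub_cancel]
  rcases Nat.lt_or_ge i (j + 1) with h | h
  · nlinarith
  · obtain ⟨l, rfl⟩ : ∃ l, i = j + 1 + l := ⟨i - (j + 1), by omega⟩
    have hb : l ≤ b := by omega
    nlinarith

variable {H : Type*} [Group H] (u : H →* Equiv.Perm E) (c : H → FreeGroup E)

/-- The total squared distance to the translation parts. -/
noncomputable def energy [Fintype H] (w : FreeGroup E) : ℕ :=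
  ∑ h, (FreeGroup.norm (w⁻¹ * c h)) ^ 2

theorem energy_move [Fintype H] (hc : ∀ h k, c (h * k) = c h * freeGroupCongr (u h) (c k)) (g : H)
    (w : FreeGroup E) : energy c (c g * freeGroupCongr (u g) w) = energy c w := by
  unfold energy
  rw [← Equiv.sum_comp (Equiv.mulLeft g)]
  refine Finset.sum_congr rfl fun h _ => ?_
  rw [Equiv.coe_mulLeft, hc, mul_inv_rev, mul_assoc, inv_mul_cancel_left, ← _root_.map_inv, ← _root_.map_mul,
    norm_congr]

theorem exists_fixed [Finite H] (hc : ∀ h k, c (h * k) = c h * freeGroupCongr (u h) (c k)) :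
    ∃ w, (∀ h, c h * freeGroupCongr (u h) w = w) ∧ ∃ h, w.toWord <+: (c h).toWord := by
  classical
  let _ := Fintype.ofFinite H
  let p := Function.argmin (energy c)
  have hmin : ∀ w, energy c p ≤ energy c w := fun w => Function.argmin_le (energy c) w
  -- two minimal points are adjacent
  have hadj : ∀ v q, energy c v = energy c p → energy c q = energy c p →
      FreeGroup.norm (v⁻¹ * q) ≤ 1 := by
    intro v q hv hq
    by_contra hk
    rw [not_le] at hk
    set k := FreeGroup.norm (v⁻¹ * q) with hkdef
    obtain ⟨x, Q, hQ⟩ : ∃ x Q, (v⁻¹ * q).toWord = x :: Q := by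
      cases hw : (v⁻¹ * q).toWord with
      | nil => rw [hkdef, FreeGroup.norm, hw] at hk; simp at hk
      | cons x Q => exact ⟨x, Q, rfl⟩
    set r := v * mk [x] with hr
    have hstep : ∀ h, k * FreeGroup.norm (r⁻¹ * c h) ^ 2 <
        (k - 1) * FreeGroup.norm (v⁻¹ * c h) ^ 2 + FreeGroup.norm (q⁻¹ * c h) ^ 2 := by
      intro h
      have e1 : r⁻¹ * c h = (mk [x])⁻¹ * (v⁻¹ * c h) := by
        rw [hr, mul_inv_rev, mul_assoc]
      have e2 : q⁻¹ * c h = (v⁻¹ * q)⁻¹ * (v⁻¹ * c h) := by group
      rw [e1]
      rcases norm_step x (v⁻¹ * c h) with ⟨L, hL, hn⟩ | ⟨hno, hn⟩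
      · have htri : FreeGroup.norm (v⁻¹ * c h) ≤ k + FreeGroup.norm (q⁻¹ * c h) := by
          have := norm_mul_le (v⁻¹ * q) (q⁻¹ * c h)
          rwa [show v⁻¹ * q * (q⁻¹ * c h) = v⁻¹ * c h by group] at this
        rw [show FreeGroup.norm ((mk [x])⁻¹ * (v⁻¹ * c h)) = FreeGroup.norm (v⁻¹ * c h) - 1 by omega]
        exact arith_near hk htri (by omega)
      · rw [hn, e2, norm_of_first_step hQ hno]
        exact arith_far hk
    have hsum : k * energy c r < (k - 1) * energy c v + energy c q := by
      unfold energy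
      rw [Finset.mul_sum, Finset.mul_sum, ← Finset.sum_add_distrib]
      exact Finset.sum_lt_sum_of_nonempty Finset.univ_nonempty fun h _ => hstep h
    rw [hv, hq] at hsum
    have h1 := Nat.mul_le_mul_left k (hmin r)
    have h2 : (k - 1) * energy c p + energy c p = k * energy c p := by
      rw [← Nat.succ_mul, Nat.succ_eq_add_one, Nat.sub_add_cancel (by omega)]
    omega
  refine ⟨p, fun g => ?_, ?_⟩
  · set q := c g * freeGroupCongr (u g) p with hqdef
    by_contra hne
    have hq : energy c q = energy c p := energy_move u c hc g p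
    have h1 : FreeGroup.norm (p⁻¹ * q) = 1 := le_antisymm (hadj p q rfl hq)
      (Nat.one_le_iff_ne_zero.mpr fun h0 => hne (inv_mul_eq_one.mp (norm_eq_zero.mp h0)).symm)
    obtain ⟨x, hx⟩ : ∃ x, (p⁻¹ * q).toWord = [x] := List.length_eq_one_iff.mp h1
    set q' := c g * freeGroupCongr (u g) q with hq'def
    have hq' : energy c q' = energy c p := (energy_move u c hc g q).trans hq
    have e : q = p * mk [x] := by rw [← hx, mk_toWord, mul_inv_cancel_left]
    have e' : p⁻¹ * q' = mk ([x] ++ [(u g x.1, x.2)]) := by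
      have h2 : q' = q * mk [(u g x.1, x.2)] := by
        conv_lhs => rw [hq'def, e, _root_.map_mul, congr_mk, ← mul_assoc, ← hqdef]
        rfl
      rw [h2, e, mul_assoc, inv_mul_cancel_left, mul_mk]
    have hle := hadj p q' rfl hq'
    rw [e', FreeGroup.norm, toWord_mk, IsReduced.reduce_eq] at hle
    · simp at hle
    · exact isReduced_cons_cons.mpr ⟨fun _ => rfl, IsReduced.singleton⟩
  · by_contra hpre
    rw [not_exists] at hpre
    rcases List.eq_nil_or_concat' p.toWord with h0 | ⟨V, x, hV⟩
    · exact hpre 1 (h0 ▸ List.nil_prefix)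
    set v : FreeGroup E := mk V with hvdef
    have hVred : IsReduced V :=
      (isReduced_toWord (x := p)).infix (hV ▸ (List.prefix_append V [x]).isInfix)
    have hp : p = v * mk [x] := by rw [hvdef, mul_mk, ← hV, mk_toWord]
    have hlt : ∀ h, FreeGroup.norm (v⁻¹ * c h) < FreeGroup.norm (p⁻¹ * c h) := by
      intro h
      rw [hp, mul_inv_rev, mul_assoc]
      rcases norm_step x (v⁻¹ * c h) with ⟨L, hL, -⟩ | ⟨-, hn⟩
      · refine absurd ?_ (hpre h)
        have h1 : c h = mk (V ++ (x :: L)) := by
          rw [← mul_mk, ← hL, mk_toWord, ← hvdef, mul_inv_cancel_left]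
        have h2 : IsReduced (V ++ [x] ++ L) := IsReduced.append_overlap
          (hV ▸ isReduced_toWord) (by rw [List.singleton_append, ← hL]; exact isReduced_toWord)
          (by simp)
        rw [hV, h1, toWord_mk, IsReduced.reduce_eq]
        · exact ⟨L, by simp⟩
        · simpa using h2
      · omega
    have hsum : energy c v < energy c p :=
      Finset.sum_lt_sum_of_nonempty Finset.univ_nonempty fun h _ =>
        Nat.pow_lt_pow_left (hlt h) two_ne_zero
    exact absurd (hmin v) (not_le.mpr hsum)

end Cfsg.Lib.Fusion.VFree
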